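import Groth.Agent.PicfLib.FppfLine.Descend
import Groth.Agent.InvX.Pullback

/-! Descent data for line bundles in coordinates, evaluated on points with values in arbitrary schemes. -/

set_option autoImplicit false
set_option backward.isDefEq.respectTransparency false
set_option backward.isDefEq.respectTransparency.types false

universe u

open CategoryTheory AlgebraicGeometry TopologicalSpace Opposite

namespace Groth.Agent.PicfLib.FppfLine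

open Groth.Agent.AModX Groth.Agent.InvX

noncomputable section

variable {T T' P Y : Scheme.{u}}

/-- The value of a function on an open at a point with values in a scheme. -/
def ev (g : T ⟶ P) (O : P.Opens) (h : ∀ t, g t ∈ O) : Γ(P, O) →+* Γ(T, ⊤) :=
  (g.appLE O ⊤ fun t _ => h t).hom

theorem ev_comp (k : T' ⟶ T) (g : T ⟶ P) (O : P.Opens) (h : ∀ t, g t ∈ O) (h' : ∀ t, (k ≫ g) t ∈ O)
    (a : Γ(P, O)) : ev (k ≫ g) O h' a = k.appTop.hom (ev g O h a) := by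
  have : (k ≫ g).appLE O ⊤ (fun t _ => h' t) = g.appLE O ⊤ (fun t _ => h t) ≫ k.appTop := by
    rw [Scheme.Hom.appTop, Scheme.Hom.app_eq_appLE, Scheme.Hom.appLE_comp_appLE]
    rfl
  exact congr($this a)

theorem ev_resR (g : T ⟶ P) {O O' : P.Opens} (hle : O' ≤ O) (h : ∀ t, g t ∈ O) (h' : ∀ t, g t ∈ O')
    (a : Γ(P, O)) : ev g O' h' (resR hle a) = ev g O h a := by
  have : P.presheaf.map (homOfLE hle).op ≫ g.appLE O' ⊤ (fun t _ => h' t) = g.appLE O ⊤ (fun t _ => h t) :=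
    Scheme.Hom.map_appLE _ _ _
  exact congr($this a)

theorem ev_app (g : T ⟶ P) (p : P ⟶ Y) (V : Y.Opens) (h : ∀ t, g t ∈ p ⁻¹ᵁ V) (h' : ∀ t, (g ≫ p) t ∈ V)
    (a : Γ(Y, V)) : ev g (p ⁻¹ᵁ V) h ((p.app V).hom a) = ev (g ≫ p) V h' a := by
  have : p.app V ≫ g.appLE (p ⁻¹ᵁ V) ⊤ (fun t _ => h t) = (g ≫ p).appLE V ⊤ (fun t _ => h' t) := by
    rw [Scheme.Hom.app_eq_appLE, Scheme.Hom.appLE_comp_appLE]
  exact congr($this a)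

theorem ev_congr {g g' : T ⟶ P} (e : g = g') (O : P.Opens) (h : ∀ t, g t ∈ O) (h' : ∀ t, g' t ∈ O)
    (a : Γ(P, O)) : ev g O h a = ev g' O h' a := by subst e; rfl

/-- A trivialising chart. -/
structure Chart (L : P.Modules) where
  /-- The open. -/
  O : P.Opens
  /-- The generator. -/
  e : Γ(L, O)
  he : IsFrame e

/-- Restriction of a chart. -/
def Chart.res {L : P.Modules} (a : Chart L) {O' : P.Opens} (h : O' ≤ a.O) : Chart L :=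
  ⟨O', AModX.res L h a.e, a.he.res h⟩

/-- Rescaling of a chart. -/
def Chart.smul {L : P.Modules} (a : Chart L) {r : Γ(P, a.O)} (hr : IsUnit r) : Chart L :=
  ⟨a.O, r • a.e, a.he.isUnit_smul hr⟩

/-- A descent datum for a line bundle in coordinates. -/
structure Datum (p : P ⟶ Y) (L : P.Modules) where
  /-- The comparison of two charts at two points over the same point of the base. -/
  γ : ∀ {T : Scheme.{u}} (g₁ g₂ : T ⟶ P) (a b : Chart L), g₁ ≫ p = g₂ ≫ p → (∀ t, g₁ t ∈ a.O) →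
    (∀ t, g₂ t ∈ b.O) → Γ(T, ⊤)
  isUnit : ∀ {T : Scheme.{u}} (g₁ g₂ : T ⟶ P) (a b : Chart L) h h₁ h₂, IsUnit (γ (T := T) g₁ g₂ a b h h₁ h₂)
  nat : ∀ {T T' : Scheme.{u}} (k : T' ⟶ T) (g₁ g₂ : T ⟶ P) (a b : Chart L) h h₁ h₂ h' h₁' h₂',
    γ (k ≫ g₁) (k ≫ g₂) a b h' h₁' h₂' = k.appTop.hom (γ g₁ g₂ a b h h₁ h₂)
  left : ∀ {T : Scheme.{u}} (g₁ g₂ : T ⟶ P) (a a' b : Chart L) (hle : a'.O ≤ a.O) (r : Γ(P, a'.O)),
    a'.e = r • AModX.res L hle a.e → ∀ h h₁ h₁' h₂,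
    γ g₁ g₂ a' b h h₁' h₂ = ev g₁ a'.O h₁' r * γ g₁ g₂ a b h h₁ h₂
  right : ∀ {T : Scheme.{u}} (g₁ g₂ : T ⟶ P) (a b b' : Chart L) (hle : b'.O ≤ b.O) (r : Γ(P, b'.O)),
    b'.e = r • AModX.res L hle b.e → ∀ h h₁ h₂ h₂',
    γ g₁ g₂ a b' h h₁ h₂' * ev g₂ b'.O h₂' r = γ g₁ g₂ a b h h₁ h₂
  cocycle : ∀ {T : Scheme.{u}} (g₁ g₂ g₃ : T ⟶ P) (a b c : Chart L) h₁₂ h₂₃ h₁₃ h₁ h₂ h₃,
    γ g₁ g₂ a b h₁₂ h₁ h₂ * γ g₂ g₃ b c h₂₃ h₂ h₃ = γ g₁ g₃ a c h₁₃ h₁ h₃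

namespace Datum

variable {p : P ⟶ Y} {L : P.Modules} (D : Datum p L)

theorem diag (g : T ⟶ P) (a : Chart L) (h : g ≫ p = g ≫ p) (h₁ h₂ : ∀ t, g t ∈ a.O) : D.γ g g a a h h₁ h₂ = 1 := by
  have := D.cocycle g g g a a a h h h h₁ h₁ h₁
  exact (D.isUnit g g a a h h₁ h₁).mul_eq_left.1 this

theorem congr {g₁ g₁' g₂ g₂' : T ⟶ P} (e₁ : g₁ = g₁') (e₂ : g₂ = g₂') (a b : Chart L) (h : g₁ ≫ p = g₂ ≫ p)
    (h₁ : ∀ t, g₁ t ∈ a.O) (h₂ : ∀ t, g₂ t ∈ b.O) (h' : g₁' ≫ p = g₂' ≫ p) (h₁' : ∀ t, g₁' t ∈ a.O)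
    (h₂' : ∀ t, g₂' t ∈ b.O) : D.γ g₁ g₂ a b h h₁ h₂ = D.γ g₁' g₂' a b h' h₁' h₂' := by
  subst e₁ e₂; rfl

end Datum

/-- Descent of functions tested on points with values in schemes. -/
theorem existsUnique_descend_pts (p : P ⟶ Y) [Flat p] [LocallyOfFinitePresentation p] {V : Y.Opens}
    (hV : ∀ y ∈ V, ∃ w, p w = y) (z : Γ(P, p ⁻¹ᵁ V))
    (hz : ∀ (T : Scheme.{u}) (g₁ g₂ : T ⟶ P) (h₁ : ∀ t, g₁ t ∈ p ⁻¹ᵁ V) (h₂ : ∀ t, g₂ t ∈ p ⁻¹ᵁ V),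
      g₁ ≫ p = g₂ ≫ p → ev g₁ _ h₁ z = ev g₂ _ h₂ z) :
    ∃! a : Γ(Y, V), (p.app V).hom a = z := by
  let π₁ := Limits.pullback.fst p p
  let π₂ := Limits.pullback.snd p p
  have hπ : π₁ ≫ p = π₂ ≫ p := Limits.pullback.condition
  let V₂ := π₁ ⁻¹ᵁ (p ⁻¹ᵁ V)
  have e₂ : V₂ ≤ π₂ ⁻¹ᵁ (p ⁻¹ᵁ V) := by
    show π₁ ⁻¹ᵁ (p ⁻¹ᵁ V) ≤ π₂ ⁻¹ᵁ (p ⁻¹ᵁ V)
    rw [← Scheme.Hom.comp_preimage, ← Scheme.Hom.comp_preimage, hπ]
  refine existsUnique_descend p π₁ π₂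
    (fun T g₁ g₂ hg => ⟨Limits.pullback.lift g₁ g₂ hg, Limits.pullback.lift_fst _ _ _, Limits.pullback.lift_snd _ _ _⟩)
    hV V₂ le_rfl e₂ inf_le_left z ?_
  have h₁ : ∀ t, (V₂.ι ≫ π₁) t ∈ p ⁻¹ᵁ V := fun t => t.2
  have h₂ : ∀ t, (V₂.ι ≫ π₂) t ∈ p ⁻¹ᵁ V := fun t => e₂ t.2
  have h := hz V₂.toScheme _ _ h₁ h₂ (by rw [Category.assoc, Category.assoc, hπ])
  have key : ∀ (π : Limits.pullback p p ⟶ P) (e : V₂ ≤ π ⁻¹ᵁ (p ⁻¹ᵁ V)) (hh : ∀ t, (V₂.ι ≫ π) t ∈ p ⁻¹ᵁ V),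
      ev (V₂.ι ≫ π) _ hh z = V₂.topIso.inv.hom ((π.appLE _ _ e).hom z) := by
    intro π e hh
    have : (V₂.ι ≫ π).appLE (p ⁻¹ᵁ V) ⊤ (fun t _ => hh t) = π.appLE _ _ e ≫ V₂.topIso.inv := by
      rw [← Scheme.Hom.appLE_comp_appLE V₂.ι π _ _ ⊤ e (fun t _ => t.2)]
      simp [Scheme.Opens.topIso, Scheme.Hom.appLE]
      rw [← Functor.map_comp]
      rfl
    exact congr($this z)
  rw [key π₁ le_rfl h₁, key π₂ e₂ h₂] at h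
  exact (ConcreteCategory.bijective_of_isIso V₂.topIso.inv).1 h

/-- Functions equal after pulling back along a flat cover are equal. -/
theorem app_injective (p : P ⟶ Y) [Flat p] [LocallyOfFinitePresentation p] {V : Y.Opens}
    (hV : ∀ y ∈ V, ∃ w, p w = y) {a b : Γ(Y, V)} (h : (p.app V).hom a = (p.app V).hom b) : a = b := by
  refine (existsUnique_descend_pts p hV ((p.app V).hom a) fun T g₁ g₂ h₁ h₂ hg => ?_).unique rfl h.symm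
  rw [ev_app g₁ p V h₁ (fun t => h₁ t), ev_app g₂ p V h₂ (fun t => h₂ t)]
  exact ev_congr hg _ _ _ _

end

end Groth.Agent.PicfLib.FppfLine
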