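import Groth.Agent.DescLib.ModDesc.Equivalence

/-! A unit cocycle on a faithfully flat algebra splits locally. -/

set_option autoImplicit false
set_option backward.isDefEq.respectTransparency false
set_option backward.isDefEq.respectTransparency.types false

universe u

open TensorProduct

namespace Groth.Agent.PicfLib.FppfLine

open Groth.Agent.DescLib.ModDesc

variable {R B : Type u} [CommRing R] [CommRing B] [Algebra R B]

/-- The face forgetting the third factor. -/
abbrev ι₁₂ : B ⊗[R] B →ₐ[R] B ⊗[R] (B ⊗[R] B) :=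
  Algebra.TensorProduct.map (AlgHom.id R B) Algebra.TensorProduct.includeLeft

/-- The face forgetting the second factor. -/
abbrev ι₁₃ : B ⊗[R] B →ₐ[R] B ⊗[R] (B ⊗[R] B) :=
  Algebra.TensorProduct.map (AlgHom.id R B) Algebra.TensorProduct.includeRight

/-- The face forgetting the first factor. -/
abbrev ι₂₃ : B ⊗[R] B →ₐ[R] B ⊗[R] (B ⊗[R] B) := Algebra.TensorProduct.includeRight

theorem exists_invariant_not_mem [Module.FaithfullyFlat R B] (v : B ⊗[R] B)
    (hco : ι₁₂ v * ι₂₃ v = ι₁₃ v) (hμ : Algebra.TensorProduct.lmul' R v = 1)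
    (𝔭 : Ideal B) [𝔭.IsPrime] :
    ∃ q : B, q ∉ 𝔭 ∧ (q ⊗ₜ[R] (1 : B)) * v = (1 : B) ⊗ₜ[R] q := by
  let ρ : B →ₗ[B] B ⊗[R] B :=
    { toFun := fun b => (b ⊗ₜ[R] (1 : B)) * v
      map_add' := fun a b => by rw [add_tmul, add_mul]
      map_smul' := fun s b => by
        rw [RingHom.id_apply, Algebra.smul_def (A := B ⊗[R] B), ← mul_assoc,
          Algebra.TensorProduct.algebraMap_apply, Algebra.TensorProduct.tmul_mul_tmul]
        simp }
  have hρ : ∀ b, ρ.restrictScalars R b = (b ⊗ₜ[R] (1 : B)) * v := fun _ => rfl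
  have hl : ∀ x, (ρ.restrictScalars R).lTensor B x = ι₁₂ x * ι₂₃ v := by
    intro x
    induction x using TensorProduct.induction_on with
    | zero => simp
    | tmul a b =>
      rw [LinearMap.lTensor_tmul, hρ, Algebra.TensorProduct.map_tmul,
        Algebra.TensorProduct.includeRight_apply, Algebra.TensorProduct.tmul_mul_tmul, AlgHom.id_apply, mul_one]
      rfl
    | add x y hx hy => rw [map_add, map_add, hx, hy, add_mul]
  have hr : ∀ x, (TensorProduct.mk R B B 1).lTensor B x = ι₁₃ x := by
    intro x
    induction x using TensorProduct.induction_on with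
    | zero => simp
    | tmul a b => rfl
    | add x y hx hy => rw [map_add, map_add, hx, hy]
  have hcoassoc : Coassoc (ρ.restrictScalars R) := by
    intro n
    rw [hl, hr, hρ, map_mul, map_mul, mul_assoc, hco]
    congr 1
  have hm : ∀ x, LinearMap.liftBaseChange B (LinearMap.id : B →ₗ[R] B) x =
      Algebra.TensorProduct.lmul' R x := by
    intro x
    induction x using TensorProduct.induction_on with
    | zero => simp
    | tmul a b => simp
    | add x y hx hy => rw [map_add, map_add, hx, hy]
  have hcu : ∀ n, LinearMap.liftBaseChange B (LinearMap.id : B →ₗ[R] B) (ρ n) = n := by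
    intro n
    show LinearMap.liftBaseChange B (LinearMap.id : B →ₗ[R] B) ((n ⊗ₜ[R] (1 : B)) * v) = n
    rw [hm, map_mul, hμ, Algebra.TensorProduct.lmul'_apply_tmul, mul_one, mul_one]
  by_contra hcon
  push Not at hcon
  have hall : ∀ x, LinearMap.liftBaseChange B (inv (ρ.restrictScalars R)).subtype x ∈ 𝔭 := by
    intro x
    induction x using TensorProduct.induction_on with
    | zero => simp
    | tmul a m =>
      rw [LinearMap.liftBaseChange_tmul, smul_eq_mul]
      refine 𝔭.mul_mem_left a (by_contra fun h => hcon m.1 h ?_)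
      exact (hρ _).symm.trans ((mem_inv (ρ.restrictScalars R)).1 m.2)
    | add x y hx hy => rw [map_add]; exact 𝔭.add_mem hx hy
  obtain ⟨x, hx⟩ := (bijective_liftBaseChange ρ univInjective_of_faithfullyFlat hcoassoc hcu).2 1
  exact Ideal.IsPrime.ne_top ‹_› ((Ideal.eq_top_iff_one _).2 (hx ▸ hall x))

end Groth.Agent.PicfLib.FppfLine
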