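import Mathlib

/-! Functions descend along flat surjective morphisms locally of finite presentation. -/

set_option autoImplicit false
set_option backward.isDefEq.respectTransparency false
set_option backward.isDefEq.respectTransparency.types false

universe u

open CategoryTheory AlgebraicGeometry TopologicalSpace Opposite

namespace Groth.Agent.PicfLib.FppfLine

noncomputable section

/-- The affine line over the integers. -/
abbrev A1 : CommRingCat.{u} := CommRingCat.of (MvPolynomial PUnit.{u + 1} (ULift.{u} ℤ))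

/-- The morphism to the affine line of a function. -/
def toA1 {Y : Scheme.{u}} (s : Γ(Y, ⊤)) : Y ⟶ Spec A1 :=
  Y.toSpecΓ ≫ Spec.map (CommRingCat.ofHom (MvPolynomial.eval₂Hom
    ((Int.castRingHom Γ(Y, ⊤)).comp ULift.ringEquiv.toRingHom) (fun _ => s)))

/-- The coordinate on the affine line. -/
def coord : Γ(Spec A1.{u}, ⊤) := (Scheme.ΓSpecIso A1).inv.hom (MvPolynomial.X PUnit.unit)

theorem appTop_toSpecΓ_map {Y : Scheme.{u}} {A : CommRingCat.{u}} (φ : A ⟶ Γ(Y, ⊤)) :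
    (Y.toSpecΓ ≫ Spec.map φ).appTop = (Scheme.ΓSpecIso A).hom ≫ φ := by
  rw [Scheme.Hom.comp_appTop, Scheme.toSpecΓ_appTop, Scheme.ΓSpecIso_naturality]

theorem toA1_coord {Y : Scheme.{u}} (s : Γ(Y, ⊤)) : (toA1 s).appTop.hom coord = s := by
  rw [toA1, appTop_toSpecΓ_map, coord, CommRingCat.hom_comp, RingHom.comp_apply, Iso.inv_hom_id_apply]
  exact MvPolynomial.eval₂Hom_X' _ _ _

theorem A1_hom_ext {Y : Scheme.{u}} {a b : Y ⟶ Spec A1} (h : a.appTop.hom coord = b.appTop.hom coord) :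
    a = b := by
  apply ext_of_isAffine
  rw [← cancel_epi (Scheme.ΓSpecIso A1).inv]
  refine CommRingCat.hom_ext (MvPolynomial.ringHom_ext (fun r => ?_) fun _ => h)
  exact congr($(RingHom.ext_int
    ((((Scheme.ΓSpecIso A1).inv ≫ a.appTop).hom.comp MvPolynomial.C).comp ULift.ringEquiv.symm.toRingHom)
    ((((Scheme.ΓSpecIso A1).inv ≫ b.appTop).hom.comp MvPolynomial.C).comp ULift.ringEquiv.symm.toRingHom))
    r.down)

theorem existsUnique_descend {P P₂ X : Scheme.{u}} (p : P ⟶ X) [Flat p] [LocallyOfFinitePresentation p]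
    (π₁ π₂ : P₂ ⟶ P)
    (hlift : ∀ (T : Scheme.{u}) (g₁ g₂ : T ⟶ P), g₁ ≫ p = g₂ ≫ p → ∃ l : T ⟶ P₂, l ≫ π₁ = g₁ ∧ l ≫ π₂ = g₂)
    {U : X.Opens} (hU : ∀ x ∈ U, ∃ w, p w = x) (V₂ : P₂.Opens)
    (e₁ : V₂ ≤ π₁ ⁻¹ᵁ (p ⁻¹ᵁ U)) (e₂ : V₂ ≤ π₂ ⁻¹ᵁ (p ⁻¹ᵁ U))
    (hV₂ : π₁ ⁻¹ᵁ (p ⁻¹ᵁ U) ⊓ π₂ ⁻¹ᵁ (p ⁻¹ᵁ U) ≤ V₂)
    (z : Γ(P, p ⁻¹ᵁ U)) (hz : (π₁.appLE _ _ e₁).hom z = (π₂.appLE _ _ e₂).hom z) :
    ∃! a : Γ(X, U), (p.app U).hom a = z := by
  let pU : (p ⁻¹ᵁ U).toScheme ⟶ U.toScheme := p ∣_ U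
  have : Flat pU := IsZariskiLocalAtTarget.restrict ‹Flat p› U
  have : LocallyOfFinitePresentation pU :=
    IsZariskiLocalAtTarget.restrict ‹LocallyOfFinitePresentation p› U
  have : Surjective pU := ⟨fun x => by
    obtain ⟨w, hw⟩ := hU x.1 x.2
    exact ⟨⟨w, show p w ∈ U from hw ▸ x.2⟩, Subtype.ext ((morphismRestrict_base_coe p U _).trans hw)⟩⟩
  let z' := (p ⁻¹ᵁ U).topIso.inv.hom z
  have key : ∀ {T : Scheme.{u}} (g₁ g₂ : T ⟶ (p ⁻¹ᵁ U).toScheme), g₁ ≫ pU = g₂ ≫ pU →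
      g₁ ≫ toA1 z' = g₂ ≫ toA1 z' := by
    intro T g₁ g₂ hg
    obtain ⟨l, hl₁, hl₂⟩ := hlift T (g₁ ≫ (p ⁻¹ᵁ U).ι) (g₂ ≫ (p ⁻¹ᵁ U).ι) (by
      rw [Category.assoc, Category.assoc, ← morphismRestrict_ι, reassoc_of% hg])
    have hr : Set.range l ⊆ Set.range V₂.ι := by
      rintro _ ⟨t, rfl⟩
      rw [Scheme.Opens.range_ι]
      refine hV₂ ⟨?_, ?_⟩
      · show π₁ (l t) ∈ p ⁻¹ᵁ U
        rw [← Scheme.Hom.comp_apply, hl₁]
        exact (g₁ t).2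
      · show π₂ (l t) ∈ p ⁻¹ᵁ U
        rw [← Scheme.Hom.comp_apply, hl₂]
        exact (g₂ t).2
    let l' := IsOpenImmersion.lift V₂.ι l hr
    have h₁ : g₁ = l' ≫ π₁.resLE _ _ e₁ := by
      rw [← cancel_mono (p ⁻¹ᵁ U).ι, Category.assoc, Scheme.Hom.resLE_comp_ι,
        IsOpenImmersion.lift_fac_assoc, hl₁]
    have h₂ : g₂ = l' ≫ π₂.resLE _ _ e₂ := by
      rw [← cancel_mono (p ⁻¹ᵁ U).ι, Category.assoc, Scheme.Hom.resLE_comp_ι,
        IsOpenImmersion.lift_fac_assoc, hl₂]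
    apply A1_hom_ext
    rw [Scheme.Hom.comp_appTop, Scheme.Hom.comp_appTop, CommRingCat.hom_comp, CommRingCat.hom_comp,
      RingHom.comp_apply, RingHom.comp_apply, toA1_coord, h₁, h₂, Scheme.Hom.comp_appTop,
      Scheme.Hom.comp_appTop, CommRingCat.hom_comp, CommRingCat.hom_comp, RingHom.comp_apply,
      RingHom.comp_apply]
    congr 1
    simp only [Scheme.Hom.appTop, Scheme.Hom.resLE_app_top, CommRingCat.hom_comp, RingHom.comp_apply, z']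
    rw [Iso.inv_hom_id_apply, hz]
  have hpU : pU.appTop = U.topIso.hom ≫ p.app U ≫ (p ⁻¹ᵁ U).topIso.inv := by
    show (p ∣_ U).app ⊤ = _
    rw [← Scheme.Hom.resLE_eq_morphismRestrict, Scheme.Hom.resLE_app_top, Scheme.Hom.app_eq_appLE]
  let d := EffectiveEpi.desc pU (toA1 z') fun {T} g₁ g₂ hg => key g₁ g₂ hg
  have hd : pU ≫ d = toA1 z' := EffectiveEpi.fac pU (toA1 z') fun {T} g₁ g₂ hg => key g₁ g₂ hg
  refine ⟨U.topIso.hom.hom (d.appTop.hom coord), ?_, fun a ha => ?_⟩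
  · apply (ConcreteCategory.bijective_of_isIso (p ⁻¹ᵁ U).topIso.inv).1
    show _ = z'
    rw [← toA1_coord z', ← hd, Scheme.Hom.comp_appTop, CommRingCat.hom_comp, RingHom.comp_apply, hpU]
    rfl
  · have : toA1 (U.topIso.inv.hom a) = d := by
      rw [← cancel_epi pU, hd]
      apply A1_hom_ext
      rw [Scheme.Hom.comp_appTop, CommRingCat.hom_comp, RingHom.comp_apply, toA1_coord, toA1_coord, hpU]
      show (p ⁻¹ᵁ U).topIso.inv.hom ((p.app U).hom (U.topIso.hom.hom (U.topIso.inv.hom a))) = z'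
      rw [Iso.inv_hom_id_apply, ha]
    rw [← this, toA1_coord, Iso.inv_hom_id_apply]

end

end Groth.Agent.PicfLib.FppfLine
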