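import Groth.Agent.PicfLib.FppfLine.Datum
import Groth.Agent.PicfLib.FppfLine.Alg
import Groth.Agent.PicfLib.Trans
import Groth.Agent.IntTh85.LineGlue
import Groth.Agent.Eg2Twist.Frames

/-! Descent data for line bundles along flat covers locally of finite presentation are effective. -/

set_option autoImplicit false
set_option backward.isDefEq.respectTransparency false
set_option backward.isDefEq.respectTransparency.types false

universe u

open CategoryTheory AlgebraicGeometry TopologicalSpace Opposite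
open CategoryTheory.Limits (pullback pullback.fst pullback.snd pullback.lift pullback.condition)
open scoped TensorProduct

namespace Groth.Agent.PicfLib.FppfLine

open Groth.Agent.AModX Groth.Agent.InvX

noncomputable section

variable {T P Y : Scheme.{u}}

/-- Evaluation at the inclusion of an open. -/
theorem ev_ι (O : P.Opens) {O' : P.Opens} (hle : O ≤ O') (a : Γ(P, O')) :
    ev O.ι O' (fun t => hle t.2) a = O.topIso.inv.hom (resR hle a) := by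
  have : O.ι.appLE O' ⊤ (fun t _ => hle t.2) = P.presheaf.map (homOfLE hle).op ≫ O.topIso.inv := by
    simp [Scheme.Hom.appLE, Scheme.Opens.topIso]
    rw [← Functor.map_comp, ← Functor.map_comp]
    rfl
  exact congr($this a)

theorem ev_ι_injective (O : P.Opens) {a b : Γ(P, O)}
    (h : ev O.ι O (fun t => t.2) a = ev O.ι O (fun t => t.2) b) : a = b := by
  rw [ev_ι O le_rfl a, ev_ι O le_rfl b, resR_self, resR_self] at h
  exact (ConcreteCategory.bijective_of_isIso O.topIso.inv).1 h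

variable {p : P ⟶ Y} {L : P.Modules}

/-- A chart on which the datum is the identity. -/
theorem exists_good_chart [Flat p] [LocallyOfFinitePresentation p] (hL : PicF.IsInvertible L) (D : Datum p L) (w : P) :
    ∃ a : Chart L, w ∈ a.O ∧ ∀ (T : Scheme.{u}) (g₁ g₂ : T ⟶ P) (h : g₁ ≫ p = g₂ ≫ p)
      (h₁ : ∀ t, g₁ t ∈ a.O) (h₂ : ∀ t, g₂ t ∈ a.O), D.γ g₁ g₂ a a h h₁ h₂ = 1 := by
  obtain ⟨U₀, hw₀, e₀, he₀⟩ := exists_frame hL w
  obtain ⟨V₀, hV₀, hy, -⟩ := exists_isAffineOpen_mem_and_subset (x := p w) (U := ⊤) trivial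
  obtain ⟨W, hW, hwW, hWV⟩ := exists_isAffineOpen_mem_and_subset (x := w) (U := U₀ ⊓ p ⁻¹ᵁ V₀) ⟨hw₀, hy⟩
  have hWV : W ≤ U₀ ⊓ p ⁻¹ᵁ V₀ := hWV
  have hWV' : W ≤ p ⁻¹ᵁ V₀ := hWV.trans inf_le_right
  obtain ⟨g, hg, hyg⟩ := hV₀.exists_basicOpen_le (V := (⟨p '' (W : Set P), p.isOpenMap _ W.isOpen⟩ : Y.Opens))
    ⟨p w, w, hwW, rfl⟩ hy
  let O : P.Opens := P.basicOpen ((p.appLE V₀ W hWV').hom g)
  have hO : IsAffineOpen O := hW.basicOpen _
  have hOeq : O = W ⊓ p ⁻¹ᵁ Y.basicOpen g := Scheme.basicOpen_appLE p W V₀ hWV' g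
  have hle : O ≤ p ⁻¹ᵁ Y.basicOpen g := hOeq ▸ inf_le_right
  have hV : IsAffineOpen (Y.basicOpen g) := hV₀.basicOpen g
  let φ := p.appLE (Y.basicOpen g) O hle
  let _ : Algebra Γ(Y, Y.basicOpen g) Γ(P, O) := φ.hom.toAlgebra
  let R := Γ(Y, Y.basicOpen g)
  let B := Γ(P, O)
  have hspec : Spec.map φ ≫ hV.fromSpec = hO.fromSpec ≫ p := hV.SpecMap_appLE_fromSpec p hO hle
  have : Module.FaithfullyFlat R B := by
    rw [← RingHom.faithfullyFlat_algebraMap_iff, RingHom.algebraMap_toAlgebra,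
      RingHom.FaithfullyFlat.iff_flat_and_comap_surjective]
    refine ⟨HasRingHomProperty.appLE @Flat p ‹_› ⟨_, hV⟩ ⟨_, hO⟩ hle, fun q => ?_⟩
    have hq : hV.fromSpec q ∈ Y.basicOpen g := by
      rw [← SetLike.mem_coe, ← hV.range_fromSpec]
      exact ⟨q, rfl⟩
    obtain ⟨x, hx, hxq⟩ := hg hq
    have hxO : x ∈ O := by
      rw [hOeq]
      exact ⟨hx, show p x ∈ Y.basicOpen g from hxq.symm ▸ hq⟩
    obtain ⟨t, rfl⟩ : x ∈ Set.range hO.fromSpec := hO.range_fromSpec.symm ▸ hxO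
    refine ⟨t, hV.fromSpec.isOpenEmbedding.injective (Eq.trans ?_ hxq)⟩
    show (Spec.map φ ≫ hV.fromSpec) t = _
    rw [hspec, Scheme.Hom.comp_apply]
  have hOU : O ≤ U₀ := (hOeq.le.trans inf_le_left).trans (hWV.trans inf_le_left)
  let a₁ : Chart L := (⟨U₀, e₀, he₀⟩ : Chart L).res hOU
  -- points with values in algebras
  let pt : ∀ {A : Type u} [CommRing A] [Algebra R A], (B →ₐ[R] A) → (Spec (CommRingCat.of A) ⟶ P) :=
    fun {A} _ _ ψ => Spec.map (CommRingCat.ofHom ψ.toRingHom) ≫ hO.fromSpec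
  have hpt : ∀ {A : Type u} [CommRing A] [Algebra R A] (ψ : B →ₐ[R] A),
      pt ψ ≫ p = Spec.map (CommRingCat.ofHom (algebraMap R A)) ≫ hV.fromSpec := by
    intro A _ _ ψ
    simp only [pt, Category.assoc]
    rw [← hspec, ← Spec.map_comp_assoc]
    congr 2
    ext r
    exact ψ.commutes r
  have hmem : ∀ {A : Type u} [CommRing A] [Algebra R A] (ψ : B →ₐ[R] A) (t : Spec (CommRingCat.of A)),
      pt ψ t ∈ a₁.O := by
    intro A _ _ ψ t
    show (Spec.map (CommRingCat.ofHom ψ.toRingHom) ≫ hO.fromSpec) t ∈ O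
    rw [Scheme.Hom.comp_apply, ← SetLike.mem_coe, ← hO.range_fromSpec]
    exact ⟨_, rfl⟩
  let G : ∀ {A : Type u} [CommRing A] [Algebra R A], (B →ₐ[R] A) → (B →ₐ[R] A) → A := fun {A} _ _ ψ₁ ψ₂ =>
    (Scheme.ΓSpecIso (CommRingCat.of A)).hom.hom
      (D.γ (pt ψ₁) (pt ψ₂) a₁ a₁ ((hpt ψ₁).trans (hpt ψ₂).symm) (hmem ψ₁) (hmem ψ₂))
  have hnat : ∀ {A A' : Type u} [CommRing A] [Algebra R A] [CommRing A'] [Algebra R A'] (κ : A →ₐ[R] A')
      (ψ₁ ψ₂ : B →ₐ[R] A), κ (G ψ₁ ψ₂) = G (κ.comp ψ₁) (κ.comp ψ₂) := by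
    intro A A' _ _ _ _ κ ψ₁ ψ₂
    have e : ∀ ψ : B →ₐ[R] A, Spec.map (CommRingCat.ofHom κ.toRingHom) ≫ pt ψ = pt (κ.comp ψ) := fun ψ => by
      simp only [pt]
      rw [← Spec.map_comp_assoc]
      rfl
    show κ ((Scheme.ΓSpecIso (CommRingCat.of A)).hom.hom _) = (Scheme.ΓSpecIso (CommRingCat.of A')).hom.hom _
    rw [← D.congr (e ψ₁) (e ψ₂) a₁ a₁ (((Category.assoc _ _ _).trans (congrArg (_ ≫ ·) ((hpt ψ₁).trans (hpt ψ₂).symm))).trans (Category.assoc _ _ _).symm)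
      (fun t => hmem ψ₁ _) (fun t => hmem ψ₂ _),
      D.nat (Spec.map (CommRingCat.ofHom κ.toRingHom)) (pt ψ₁) (pt ψ₂) a₁ a₁ ((hpt ψ₁).trans (hpt ψ₂).symm)
        (hmem ψ₁) (hmem ψ₂)]
    exact (congr($(Scheme.ΓSpecIso_naturality (CommRingCat.ofHom κ.toRingHom)) _)).symm
  have hcyc : ∀ {A : Type u} [CommRing A] [Algebra R A] (ψ₁ ψ₂ ψ₃ : B →ₐ[R] A),
      G ψ₁ ψ₂ * G ψ₂ ψ₃ = G ψ₁ ψ₃ := by
    intro A _ _ ψ₁ ψ₂ ψ₃
    show (Scheme.ΓSpecIso (CommRingCat.of A)).hom.hom _ * (Scheme.ΓSpecIso (CommRingCat.of A)).hom.hom _ = _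
    rw [← map_mul, D.cocycle]
  have hev : ∀ {A : Type u} [CommRing A] [Algebra R A] (ψ : B →ₐ[R] A) (z : Γ(P, O)),
      (Scheme.ΓSpecIso (CommRingCat.of A)).hom.hom (ev (pt ψ) O (hmem ψ) z) = ψ z := by
    intro A _ _ ψ z
    rw [ev_comp (Spec.map (CommRingCat.ofHom ψ.toRingHom)) hO.fromSpec O (fun t => by
      rw [← SetLike.mem_coe, ← hO.range_fromSpec]; exact ⟨t, rfl⟩) (hmem ψ) z]
    refine (congr($(Scheme.ΓSpecIso_naturality (CommRingCat.ofHom ψ.toRingHom)) _)).trans ?_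
    show ψ ((Scheme.ΓSpecIso Γ(P, O)).hom.hom _) = ψ z
    congr 1
    have : hO.fromSpec.appLE O ⊤ (fun t _ => by
        show hO.fromSpec t ∈ O
        rw [← SetLike.mem_coe, ← hO.range_fromSpec]; exact ⟨t, rfl⟩) = (Scheme.ΓSpecIso Γ(P, O)).inv := by
      simp [Scheme.Hom.appLE, IsAffineOpen.fromSpec_app_self]
      rw [← Functor.map_comp]
      exact (congrArg (fun k => _ ≫ k) ((Spec Γ(P, O)).presheaf.map_id _)).trans (Category.comp_id _)
    exact (congrArg (Scheme.ΓSpecIso Γ(P, O)).hom.hom (congr($this z))).trans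
      (congr($((Scheme.ΓSpecIso Γ(P, O)).inv_hom_id) z))
  let l : B →ₐ[R] B ⊗[R] B := Algebra.TensorProduct.includeLeft
  let r : B →ₐ[R] B ⊗[R] B := Algebra.TensorProduct.includeRight
  have hμ : Algebra.TensorProduct.lmul' R (G l r) = 1 := by
    rw [hnat, show (Algebra.TensorProduct.lmul' R).comp l = AlgHom.id R B by ext; simp [l],
      show (Algebra.TensorProduct.lmul' R).comp r = AlgHom.id R B by ext; simp [r]]
    show (Scheme.ΓSpecIso (CommRingCat.of B)).hom.hom _ = 1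
    rw [D.diag, map_one]
  have hco : ι₁₂ (G l r) * ι₂₃ (G l r) = ι₁₃ (G l r) := by
    rw [hnat, hnat, hnat,
      show (ι₂₃ : B ⊗[R] B →ₐ[R] _).comp l = (ι₁₂ : B ⊗[R] B →ₐ[R] _).comp r by ext; simp [l, r],
      show (ι₁₃ : B ⊗[R] B →ₐ[R] _).comp l = (ι₁₂ : B ⊗[R] B →ₐ[R] _).comp l by ext; simp [l],
      show (ι₁₃ : B ⊗[R] B →ₐ[R] _).comp r = (ι₂₃ : B ⊗[R] B →ₐ[R] _).comp r by ext; simp [r]]
    exact hcyc _ _ _
  obtain ⟨y₀, hy₀⟩ : w ∈ Set.range hO.fromSpec := by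
    rw [hO.range_fromSpec, hOeq]; exact ⟨hwW, hyg⟩
  obtain ⟨q, hq, hqv⟩ := exists_invariant_not_mem (G l r) hco hμ y₀.asIdeal
  have hqle : P.basicOpen q ≤ O := P.basicOpen_le q
  let a : Chart L := (a₁.res hqle).smul (isUnit_resR hqle q le_rfl)
  refine ⟨a, ?_, ?_⟩
  · show w ∈ P.basicOpen q
    rw [← hy₀]
    show y₀ ∈ hO.fromSpec ⁻¹ᵁ P.basicOpen q
    rw [hO.fromSpec_preimage_basicOpen]
    exact hq
  intro T g₁ g₂ h h₁ h₂
  have hO₁ : ∀ t, g₁ t ∈ O := fun t => hqle (h₁ t)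
  have hO₂ : ∀ t, g₂ t ∈ O := fun t => hqle (h₂ t)
  let t₁ := IsOpenImmersion.lift hO.fromSpec g₁ (by
    rintro _ ⟨t, rfl⟩; rw [hO.range_fromSpec]; exact hO₁ t)
  let t₂ := IsOpenImmersion.lift hO.fromSpec g₂ (by
    rintro _ ⟨t, rfl⟩; rw [hO.range_fromSpec]; exact hO₂ t)
  have f₁ : t₁ ≫ hO.fromSpec = g₁ := IsOpenImmersion.lift_fac _ _ _
  have f₂ : t₂ ≫ hO.fromSpec = g₂ := IsOpenImmersion.lift_fac _ _ _
  have ht : t₁ ≫ Spec.map (CommRingCat.ofHom (algebraMap R B)) = t₂ ≫ Spec.map (CommRingCat.ofHom (algebraMap R B)) := by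
    rw [← cancel_mono hV.fromSpec, Category.assoc, Category.assoc]
    show t₁ ≫ Spec.map φ ≫ hV.fromSpec = t₂ ≫ Spec.map φ ≫ hV.fromSpec
    rw [hspec, reassoc_of% f₁, reassoc_of% f₂, h]
  let m := pullback.lift t₁ t₂ ht ≫ (pullbackSpecIso R B B).hom
  have m₁ : m ≫ pt l = g₁ := by
    simp only [pt, m, Category.assoc]
    rw [show (pullbackSpecIso R B B).hom ≫ Spec.map (CommRingCat.ofHom l.toRingHom) ≫ hO.fromSpec =
        pullback.fst _ _ ≫ hO.fromSpec by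
      rw [← Iso.eq_inv_comp, pullbackSpecIso_inv_fst_assoc]; rfl,
      CategoryTheory.Limits.pullback.lift_fst_assoc, f₁]
  have m₂ : m ≫ pt r = g₂ := by
    simp only [pt, m, Category.assoc]
    rw [show (pullbackSpecIso R B B).hom ≫ Spec.map (CommRingCat.ofHom r.toRingHom) ≫ hO.fromSpec =
        pullback.snd _ _ ≫ hO.fromSpec by
      rw [← Iso.eq_inv_comp, pullbackSpecIso_inv_snd_assoc]; rfl,
      CategoryTheory.Limits.pullback.lift_snd_assoc, f₂]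
  -- the identity on the points
  have hx : (Scheme.ΓSpecIso (CommRingCat.of (B ⊗[R] B))).hom.hom (ev (pt l) O (hmem l) q *
      D.γ (pt l) (pt r) a₁ a₁ ((hpt l).trans (hpt r).symm) (hmem l) (hmem r)) =
      (Scheme.ΓSpecIso (CommRingCat.of (B ⊗[R] B))).hom.hom (ev (pt r) O (hmem r) q) := by
    rw [map_mul, hev, hev]
    exact hqv
  have hx' := congrArg m.appTop.hom ((ConcreteCategory.bijective_of_isIso (Scheme.ΓSpecIso (CommRingCat.of (B ⊗[R] B))).hom).1 hx)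
  rw [map_mul, ← ev_comp m (pt l) O (hmem l) (fun t => hmem l (m t)) q,
    ← ev_comp m (pt r) O (hmem r) (fun t => hmem r (m t)) q,
    ← D.nat m (pt l) (pt r) a₁ a₁ ((hpt l).trans (hpt r).symm) (hmem l) (hmem r)
      (by rw [m₁, m₂, h]) (fun t => hmem l (m t)) (fun t => hmem r (m t)),
    D.congr m₁ m₂ a₁ a₁ _ _ _ h hO₁ hO₂, ev_congr m₁ O _ hO₁, ev_congr m₂ O _ hO₂] at hx'
  have hl := D.left g₁ g₂ a₁ a a hqle (resR hqle q) rfl h hO₁ h₁ h₂
  have hr := D.right g₁ g₂ a₁ a₁ a hqle (resR hqle q) rfl h hO₁ hO₂ h₂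
  replace hl := hl.trans (congrArg (· * _) (ev_resR g₁ hqle hO₁ h₁ q))
  replace hr := (congrArg (_ * ·) (ev_resR g₂ hqle hO₂ h₂ q)).symm.trans hr
  have hu : IsUnit (ev g₂ O hO₂ q) := by
    rw [← ev_resR g₂ hqle hO₂ h₂]
    exact (isUnit_resR hqle q le_rfl).map _
  refine hu.mul_right_cancel ?_
  rw [one_mul, hl, mul_assoc, hr, hx']

/-- Descent data for line bundles are effective. -/
theorem exists_descent [Flat p] [LocallyOfFinitePresentation p] [Surjective p] (hL : PicF.IsInvertible L)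
    (D : Datum p L) :
    ∃ M : Y.Modules, PicF.IsInvertible M ∧ Nonempty ((Scheme.Modules.pullback p).obj M ≅ L) := by
  choose a ha₀ ha₁ using exists_good_chart hL D
  let V : P → Y.Opens := fun i => ⟨p '' ((a i).O : Set P), p.isOpenMap _ (a i).O.isOpen⟩
  let q : ∀ i, ((a i).O : Scheme.{u}) ⟶ Y := fun i => (a i).O.ι ≫ p
  let W₂ : P → P → Scheme.{u} := fun i j => pullback (q i) (q j)
  let q₂ : ∀ i j, W₂ i j ⟶ Y := fun i j => pullback.fst (q i) (q j) ≫ q i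
  have hsurj : ∀ i j, ∀ y ∈ V i ⊓ V j, ∃ x, q₂ i j x = y := by
    rintro i j y ⟨⟨x, hx, hxy⟩, ⟨x', hx', hxy'⟩⟩
    obtain ⟨z, hz, -⟩ := Scheme.Pullback.exists_preimage_pullback (f := q i) (g := q j) ⟨x, hx⟩ ⟨x', hx'⟩
      (show q i ⟨x, hx⟩ = q j ⟨x', hx'⟩ by
        show ((a i).O.ι ≫ p) ⟨x, hx⟩ = ((a j).O.ι ≫ p) ⟨x', hx'⟩
        rw [Scheme.Hom.comp_apply, Scheme.Hom.comp_apply]
        exact hxy.trans hxy'.symm)
    refine ⟨z, ?_⟩
    show (pullback.fst (q i) (q j) ≫ q i) z = y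
    rw [Scheme.Hom.comp_apply, hz]
    exact hxy
  have : ∀ i j, Flat (q₂ i j) := fun i j => by
    have : Flat (pullback.fst (q i) (q j)) := MorphismProperty.pullback_fst _ _ inferInstance
    infer_instance
  have : ∀ i j, LocallyOfFinitePresentation (q₂ i j) := fun i j => by
    have : LocallyOfFinitePresentation (pullback.fst (q i) (q j)) := MorphismProperty.pullback_fst _ _ inferInstance
    infer_instance
  let k₁ : ∀ i j, W₂ i j ⟶ P := fun i j => pullback.fst (q i) (q j) ≫ (a i).O.ι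
  let k₂ : ∀ i j, W₂ i j ⟶ P := fun i j => pullback.snd (q i) (q j) ≫ (a j).O.ι
  have hk : ∀ i j, k₁ i j ≫ p = k₂ i j ≫ p := fun i j => by
    simp only [k₁, k₂, Category.assoc]; exact pullback.condition
  have hk₁ : ∀ i j t, k₁ i j t ∈ (a i).O := fun i j t => by
    show (pullback.fst (q i) (q j) ≫ (a i).O.ι) t ∈ (a i).O
    rw [Scheme.Hom.comp_apply]; exact (pullback.fst (q i) (q j) t).2
  have hk₂ : ∀ i j t, k₂ i j t ∈ (a j).O := fun i j t => by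
    show (pullback.snd (q i) (q j) ≫ (a j).O.ι) t ∈ (a j).O
    rw [Scheme.Hom.comp_apply]; exact (pullback.snd (q i) (q j) t).2
  let z : ∀ i j, Γ(W₂ i j, q₂ i j ⁻¹ᵁ (V i ⊓ V j)) := fun i j =>
    resR le_top (D.γ (k₁ i j) (k₂ i j) (a i) (a j) (hk i j) (hk₁ i j) (hk₂ i j))
  have hz : ∀ i j (S : Scheme.{u}) (G : S ⟶ W₂ i j) (hG : ∀ t, G t ∈ q₂ i j ⁻¹ᵁ (V i ⊓ V j))
      (h : (G ≫ k₁ i j) ≫ p = (G ≫ k₂ i j) ≫ p) (h₁ : ∀ t, (G ≫ k₁ i j) t ∈ (a i).O)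
      (h₂ : ∀ t, (G ≫ k₂ i j) t ∈ (a j).O),
      ev G _ hG (z i j) = D.γ (G ≫ k₁ i j) (G ≫ k₂ i j) (a i) (a j) h h₁ h₂ := by
    intro i j S G hG h h₁ h₂
    rw [D.nat G (k₁ i j) (k₂ i j) (a i) (a j) (hk i j) (hk₁ i j) (hk₂ i j), ev_resR G le_top (fun t => trivial)]
    show (G.appLE ⊤ ⊤ _).hom _ = G.appTop.hom _
    rw [Scheme.Hom.appTop, Scheme.Hom.app_eq_appLE]
    rfl
  have hdesc : ∀ i j, ∃! u : Γ(Y, V i ⊓ V j), ((q₂ i j).app (V i ⊓ V j)).hom u = z i j := by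
    intro i j
    refine existsUnique_descend_pts (q₂ i j) (hsurj i j) (z i j) fun S G G' hG hG' hGG => ?_
    have e : ∀ G : S ⟶ W₂ i j, (G ≫ k₁ i j) ≫ p = (G ≫ k₂ i j) ≫ p := fun G =>
      (Category.assoc _ _ _).trans ((congrArg (G ≫ ·) (hk i j)).trans (Category.assoc _ _ _).symm)
    have e₁ : ∀ (G : S ⟶ W₂ i j) (t : S), (G ≫ k₁ i j) t ∈ (a i).O := fun G t => by
      rw [Scheme.Hom.comp_apply]; exact hk₁ i j _
    have e₂ : ∀ (G : S ⟶ W₂ i j) (t : S), (G ≫ k₂ i j) t ∈ (a j).O := fun G t => by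
      rw [Scheme.Hom.comp_apply]; exact hk₂ i j _
    have c₁ : (G ≫ k₁ i j) ≫ p = (G' ≫ k₁ i j) ≫ p := by
      have := hGG
      simp only [q₂, q] at this
      simpa only [k₁, Category.assoc] using this
    have c₂ : (G' ≫ k₂ i j) ≫ p = (G ≫ k₂ i j) ≫ p := by rw [← e G', ← c₁, e G]
    rw [hz i j S G hG (e G) (e₁ G) (e₂ G), hz i j S G' hG' (e G') (e₁ G') (e₂ G'),
      ← D.cocycle (G ≫ k₁ i j) (G' ≫ k₁ i j) (G ≫ k₂ i j) (a i) (a i) (a j) c₁ (c₁.symm.trans (e G)) (e G)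
        (e₁ G) (e₁ G') (e₂ G),
      ← D.cocycle (G' ≫ k₁ i j) (G' ≫ k₂ i j) (G ≫ k₂ i j) (a i) (a j) (a j) (e G') c₂ (c₁.symm.trans (e G))
        (e₁ G') (e₂ G') (e₂ G), ha₁, ha₁, one_mul, mul_one]
  choose u₀ hu₀ hu₀u using hdesc
  have hchar : ∀ i j (S : Scheme.{u}) (g₁ g₂ : S ⟶ P) (h : g₁ ≫ p = g₂ ≫ p) (h₁ : ∀ t, g₁ t ∈ (a i).O)
      (h₂ : ∀ t, g₂ t ∈ (a j).O) (hV : ∀ t, (g₁ ≫ p) t ∈ V i ⊓ V j),
      ev (g₁ ≫ p) _ hV (u₀ i j) = D.γ g₁ g₂ (a i) (a j) h h₁ h₂ := by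
    intro i j S g₁ g₂ h h₁ h₂ hV
    let s₁ := IsOpenImmersion.lift (a i).O.ι g₁ (by rintro _ ⟨t, rfl⟩; rw [Scheme.Opens.range_ι]; exact h₁ t)
    let s₂ := IsOpenImmersion.lift (a j).O.ι g₂ (by rintro _ ⟨t, rfl⟩; rw [Scheme.Opens.range_ι]; exact h₂ t)
    have f₁ : s₁ ≫ (a i).O.ι = g₁ := IsOpenImmersion.lift_fac _ _ _
    have f₂ : s₂ ≫ (a j).O.ι = g₂ := IsOpenImmersion.lift_fac _ _ _
    let G : S ⟶ W₂ i j := pullback.lift s₁ s₂ (by simp only [q, reassoc_of% f₁, reassoc_of% f₂, h])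
    have hG₁ : G ≫ k₁ i j = g₁ := by simp [G, k₁, f₁]
    have hG₂ : G ≫ k₂ i j = g₂ := by simp [G, k₂, f₂]
    have hGq : G ≫ q₂ i j = g₁ ≫ p := by rw [← hG₁]; simp only [k₁, q₂, q, Category.assoc]
    have hV' : ∀ t, (G ≫ q₂ i j) t ∈ V i ⊓ V j := fun t => by rw [hGq]; exact hV t
    have hVG : ∀ t, G t ∈ q₂ i j ⁻¹ᵁ (V i ⊓ V j) := fun t => by
      show q₂ i j (G t) ∈ V i ⊓ V j
      rw [← Scheme.Hom.comp_apply]; exact hV' t
    rw [ev_congr hGq.symm _ hV hV', ← ev_app G (q₂ i j) _ hVG hV', hu₀]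
    refine (hz i j S G hVG (by rw [hG₁, hG₂, h]) (fun t => by rw [hG₁]; exact h₁ t)
      (fun t => by rw [hG₂]; exact h₂ t)).trans ?_
    exact D.congr hG₁ hG₂ _ _ _ _ _ _ _ _
  have hcoc : ∀ i j l (W : Y.Opens) (hi : W ≤ V i) (hj : W ≤ V j) (hl : W ≤ V l),
      resR (le_inf hi hj) (u₀ i j) * resR (le_inf hj hl) (u₀ j l) = resR (le_inf hi hl) (u₀ i l) := by
    intro i j l W hi hj hl
    let q₃ : pullback (q₂ i j) (q l) ⟶ Y := pullback.fst (q₂ i j) (q l) ≫ q₂ i j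
    have : Flat (pullback.fst (q₂ i j) (q l)) := MorphismProperty.pullback_fst _ _ inferInstance
    have : LocallyOfFinitePresentation (pullback.fst (q₂ i j) (q l)) :=
      MorphismProperty.pullback_fst _ _ inferInstance
    refine app_injective q₃ (fun y hy => ?_) ?_
    · obtain ⟨x₂, hx₂⟩ := hsurj i j y ⟨hi hy, hj hy⟩
      obtain ⟨x, hx, hxy⟩ := hl hy
      obtain ⟨x₃, hx₃, -⟩ := Scheme.Pullback.exists_preimage_pullback (f := q₂ i j) (g := q l) x₂ ⟨x, hx⟩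
        (show q₂ i j x₂ = q l ⟨x, hx⟩ by
          rw [hx₂]; show y = ((a l).O.ι ≫ p) ⟨x, hx⟩; rw [Scheme.Hom.comp_apply]; exact hxy.symm)
      refine ⟨x₃, ?_⟩
      show (pullback.fst (q₂ i j) (q l) ≫ q₂ i j) x₃ = y
      rw [Scheme.Hom.comp_apply, hx₃, hx₂]
    · let O := q₃ ⁻¹ᵁ W
      apply ev_ι_injective O
      have hW : ∀ t, (O.ι ≫ q₃) t ∈ W := fun t => by rw [Scheme.Hom.comp_apply]; exact t.2
      let gi := O.ι ≫ pullback.fst _ _ ≫ k₁ i j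
      let gj := O.ι ≫ pullback.fst _ _ ≫ k₂ i j
      let gl := O.ι ≫ pullback.snd (q₂ i j) (q l) ≫ (a l).O.ι
      have ei : gi ≫ p = O.ι ≫ q₃ := by simp only [gi, q₃, q₂, k₁, q, Category.assoc]
      have ej : gj ≫ p = O.ι ≫ q₃ := by
        rw [← ei]; simp only [gi, gj, Category.assoc, hk]
      have el : gl ≫ p = O.ι ≫ q₃ := by
        simp only [gl, q₃, Category.assoc]; rw [pullback.condition]
      have mi : ∀ t, gi t ∈ (a i).O := fun t => by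
        simp only [gi, Scheme.Hom.comp_apply]; exact hk₁ i j _
      have mj : ∀ t, gj t ∈ (a j).O := fun t => by
        simp only [gj, Scheme.Hom.comp_apply]; exact hk₂ i j _
      have ml : ∀ t, gl t ∈ (a l).O := fun t => by
        simp only [gl, Scheme.Hom.comp_apply]; exact (pullback.snd (q₂ i j) (q l) _).2
      have step : ∀ (i' j' : P) (g g' : (O : Scheme.{u}) ⟶ P) (eg : g ≫ p = O.ι ≫ q₃) (eg' : g' ≫ p = O.ι ≫ q₃)
          (m : ∀ t, g t ∈ (a i').O) (m' : ∀ t, g' t ∈ (a j').O) (hle : W ≤ V i' ⊓ V j'),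
          ev (O.ι ≫ q₃) W hW (resR hle (u₀ i' j')) = D.γ g g' (a i') (a j') (eg.trans eg'.symm) m m' := by
        intro i' j' g g' eg eg' m m' hle
        rw [ev_resR (O.ι ≫ q₃) hle (fun t => hle (hW t)) hW,
          ev_congr eg.symm _ _ (fun t => eg.symm ▸ hle (hW t))]
        exact hchar i' j' _ g g' _ m m' _
      rw [ev_app O.ι q₃ W (fun t => t.2) hW, ev_app O.ι q₃ W (fun t => t.2) hW, map_mul,
        step i j gi gj ei ej mi mj (le_inf hi hj), step j l gj gl ej el mj ml (le_inf hj hl),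
        step i l gi gl ei el mi ml (le_inf hi hl)]
      exact D.cocycle _ _ _ _ _ _ _ _ _ _ _ _
  have hone : ∀ i (W : Y.Opens) (hi : W ≤ V i), resR (le_inf hi hi) (u₀ i i) = 1 := by
    intro i W hi
    refine app_injective (q i) (fun y hy => ?_) ?_
    · obtain ⟨x, hx, hxy⟩ := hi hy
      exact ⟨⟨x, hx⟩, by show ((a i).O.ι ≫ p) ⟨x, hx⟩ = y; rw [Scheme.Hom.comp_apply]; exact hxy⟩
    · let O := q i ⁻¹ᵁ W
      apply ev_ι_injective O
      have hW : ∀ t, (O.ι ≫ q i) t ∈ W := fun t => by rw [Scheme.Hom.comp_apply]; exact t.2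
      have hW' : ∀ t, ((O.ι ≫ (a i).O.ι) ≫ p) t ∈ V i ⊓ V i := fun t => by
        rw [Category.assoc]; exact le_inf hi hi (hW t)
      rw [ev_app O.ι (q i) W (fun t => t.2) hW, ev_app O.ι (q i) W (fun t => t.2) hW, map_one,
        ev_resR (O.ι ≫ q i) (le_inf hi hi) (fun t => le_inf hi hi (hW t)) hW,
        ev_congr (show O.ι ≫ q i = (O.ι ≫ (a i).O.ι) ≫ p by rw [Category.assoc]) _ _ hW',
        hchar i i _ _ (O.ι ≫ (a i).O.ι) rfl (fun t => by rw [Scheme.Hom.comp_apply]; exact (O.ι t).2)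
          (fun t => by rw [Scheme.Hom.comp_apply]; exact (O.ι t).2) hW', D.diag]
  obtain ⟨M, ε, hM, hε, hεu⟩ := IntTh85.LineGlue.exists_line (O := V)
    (fun y => by obtain ⟨x, rfl⟩ := p.surjective y; exact ⟨x, x, ha₀ x, rfl⟩)
    (fun i j W hi hj => resR (le_inf hi hj) (u₀ i j))
    (fun i j W hi hj => IsUnit.of_mul_eq_one _ (by rw [hcoc i j i W hi hj hi, hone i W hi]))
    (fun i j W W' hi hj h => resR_resR _ _ _)
    hcoc
  refine ⟨M, hM, ?_⟩
  have hpre : ∀ i, (a i).O ≤ p ⁻¹ᵁ V i := fun i x hx => ⟨x, hx, rfl⟩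
  refine Eg2Twist.nonempty_iso_of_frames (fun i => (a i).O) (fun x => ⟨x, ha₀ x⟩)
    (fun i => res _ (hpre i) (pullElt p (ε i))) (fun i => (a i).e)
    (fun i => (isFrame_pullElt p (hε i)).res _) (fun i => (a i).he) fun i j W hi hj k hk => ?_
  obtain ⟨m, hm⟩ := (a i).he.exists_coord hi (res L hj (a j).e)
  -- compare m with the descended function
  have hWV : W ≤ p ⁻¹ᵁ (V i ⊓ V j) := le_inf (hi.trans (hpre i)) (hj.trans (hpre j))
  have mI : ∀ t, W.ι t ∈ W := fun t => t.2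
  have hl := D.left W.ι W.ι ((a i).res hi) ((a j).res hj) ((a j).res hj) le_rfl m
    (show res L hj (a j).e = m • res L le_rfl (res L hi (a i).e) by rw [res_self, hm]) rfl mI mI mI
  have hir := D.left W.ι W.ι (a i) ((a i).res hi) ((a j).res hj) hi 1 (one_smul _ _).symm rfl
    (fun t => hi (mI t)) mI mI
  have hjr := D.right W.ι W.ι (a i) (a j) ((a j).res hj) hj 1 (one_smul _ _).symm rfl
    (fun t => hi (mI t)) (fun t => hj (mI t)) mI
  rw [map_one, one_mul] at hir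
  rw [map_one, mul_one] at hjr
  rw [D.diag, hir, hjr, ← hchar i j _ W.ι W.ι rfl (fun t => hi (mI t)) (fun t => hj (mI t))
    (fun t => by rw [Scheme.Hom.comp_apply]; exact hWV (mI t))] at hl
  have hmu : m * resR hWV ((p.app (V i ⊓ V j)).hom (u₀ i j)) = 1 := by
    apply ev_ι_injective W
    rw [map_mul, map_one, ev_resR W.ι hWV (fun t => hWV (mI t)) mI,
      ev_app W.ι p _ (fun t => hWV (mI t)) (fun t => by rw [Scheme.Hom.comp_apply]; exact hWV (mI t))]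
    exact hl.symm
  have hk' : res _ hj (res _ (hpre j) (pullElt p (ε j))) = m • res _ hi (res _ (hpre i) (pullElt p (ε i))) := by
    have h := congrArg (res ((Scheme.Modules.pullback p).obj M) hWV)
      (congrArg (pullElt p) (hεu i j (V i ⊓ V j) inf_le_left inf_le_right))
    rw [pullElt_smul, ← res_pullElt p inf_le_left, ← res_pullElt p inf_le_right, res_smul, res_res, res_res] at h
    rw [show resR (le_inf (inf_le_left : V i ⊓ V j ≤ V i) inf_le_right) (u₀ i j) = u₀ i j from resR_self _] at h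
    rw [res_res, res_res, h, ← mul_smul, hmu, one_smul]
  rw [hm, ((isFrame_pullElt p (hε i)).res (hpre i)).coord_unique hi (hk.symm.trans hk')]

end

end Groth.Agent.PicfLib.FppfLine
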