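import Groth.Agent.PicfLib.FppfLine.Descend
import Groth.Agent.PicfLib.FppfLine.Alg
import Groth.Agent.PicfLib.Trans

/-! A line bundle trivial after an affine faithfully flat extension of the base has frames over opens of the base. -/

set_option autoImplicit false
set_option backward.isDefEq.respectTransparency false
set_option backward.isDefEq.respectTransparency.types false

universe u

open CategoryTheory CategoryTheory.Limits AlgebraicGeometry TopologicalSpace Opposite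
open scoped TensorProduct

namespace Groth.Agent.PicfLib.FppfLine

open Groth.Agent.AModX Groth.Agent.InvX

noncomputable section

variable {X S : Scheme.{u}} (f : X ⟶ S) {R : Type u} [CommRing R] (j : Spec (CommRingCat.of R) ⟶ S)

/-- The structure map of the spectrum of an algebra. -/
abbrev wmap (A : Type u) [CommRing A] [Algebra R A] : Spec (CommRingCat.of A) ⟶ S :=
  Spec.map (CommRingCat.ofHom (algebraMap R A)) ≫ j

variable {A A' : Type u} [CommRing A] [Algebra R A] [CommRing A'] [Algebra R A']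

/-- The map of base changes of a map of algebras. -/
def bcMap (φ : A →ₐ[R] A') : pullback f (wmap j A') ⟶ pullback f (wmap j A) :=
  pullback.lift (pullback.fst _ _) (pullback.snd _ _ ≫ Spec.map (CommRingCat.ofHom φ.toRingHom)) (by
    rw [pullback.condition, Category.assoc, wmap, wmap, ← Spec.map_comp_assoc]
    congr 3
    ext r
    exact (φ.commutes r).symm)

@[reassoc]
theorem bcMap_fst (φ : A →ₐ[R] A') : bcMap f j φ ≫ pullback.fst _ _ = pullback.fst _ _ :=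
  pullback.lift_fst _ _ _

@[reassoc]
theorem bcMap_snd (φ : A →ₐ[R] A') :
    bcMap f j φ ≫ pullback.snd _ _ = pullback.snd _ _ ≫ Spec.map (CommRingCat.ofHom φ.toRingHom) :=
  pullback.lift_snd _ _ _

theorem bcMap_comp {A'' : Type u} [CommRing A''] [Algebra R A''] (φ : A' →ₐ[R] A'') (ψ : A →ₐ[R] A') :
    bcMap f j φ ≫ bcMap f j ψ = bcMap f j (φ.comp ψ) := by
  apply pullback.hom_ext
  · rw [Category.assoc, bcMap_fst, bcMap_fst, bcMap_fst]
  · rw [Category.assoc, bcMap_snd, bcMap_snd_assoc, bcMap_snd, ← Spec.map_comp, ← CommRingCat.ofHom_comp]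
    rfl

theorem bcMap_id : bcMap f j (AlgHom.id R A) = 𝟙 (pullback f (wmap j A)) := by
  apply pullback.hom_ext
  · rw [bcMap_fst, Category.id_comp]
  · rw [bcMap_snd, Category.id_comp, show (AlgHom.id R A).toRingHom = RingHom.id A from rfl,
      CommRingCat.ofHom_id, Spec.map_id, Category.comp_id]

/-- The functions of the parameters. -/
def eΓ (A : Type u) [CommRing A] [Algebra R A] : A →+* Γ(pullback f (wmap j A), ⊤) :=
  (pullback.snd f (wmap j A)).appTop.hom.comp (Scheme.ΓSpecIso (CommRingCat.of A)).inv.hom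

theorem eΓ_nat (φ : A →ₐ[R] A') (a : A) : (bcMap f j φ).appTop.hom (eΓ f j A a) = eΓ f j A' (φ a) := by
  have h : (pullback.snd f (wmap j A)).appTop ≫ (bcMap f j φ).appTop =
      (Spec.map (CommRingCat.ofHom φ.toRingHom)).appTop ≫ (pullback.snd f (wmap j A')).appTop := by
    rw [← Scheme.Hom.comp_appTop, bcMap_snd, Scheme.Hom.comp_appTop]
  refine (congr($h _)).trans ?_
  show (pullback.snd f (wmap j A')).appTop.hom _ = (pullback.snd f (wmap j A')).appTop.hom _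
  congr 1
  exact (congr($(Scheme.ΓSpecIso_inv_naturality (CommRingCat.ofHom φ.toRingHom)) a)).symm

theorem bijective_eΓ (ha : ∀ (T : Over S) (U : T.left.Opens), IsIso ((PicF.XTproj f T).app U)) :
    Function.Bijective (eΓ f j A) := by
  have h : IsIso ((pullback.snd f (wmap j A)).app ⊤) := ha (Over.mk (wmap j A)) ⊤
  exact (ConcreteCategory.bijective_of_isIso ((pullback.snd f (wmap j A)).app ⊤)).comp
    (ConcreteCategory.bijective_of_isIso (Scheme.ΓSpecIso (CommRingCat.of A)).inv)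

/-- Restriction of a global function. -/
abbrev rTop {Y : Scheme.{u}} (V : Y.Opens) : Γ(Y, ⊤) →+* Γ(Y, V) := resR (X := Y) le_top

theorem appLE_rTop {Y Z : Scheme.{u}} (g : Y ⟶ Z) (U : Z.Opens) (V : Y.Opens) (e : V ≤ g ⁻¹ᵁ U) (a : Γ(Z, ⊤)) :
    (g.appLE U V e).hom (rTop U a) = rTop V (g.appTop.hom a) := by
  have : Z.presheaf.map (homOfLE (le_top : U ≤ ⊤)).op ≫ g.appLE U V e =
      g.appTop ≫ Y.presheaf.map (homOfLE (le_top : V ≤ ⊤)).op := by
    simp [Scheme.Hom.appTop, Scheme.Hom.app_eq_appLE, Scheme.Hom.map_appLE, Scheme.Hom.appLE_map]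
  exact congr($this a)

variable {B : Type u} [CommRing B] [Algebra R B]

theorem appLE_resR {Y Z : Scheme.{u}} (g : Y ⟶ Z) {U U' : Z.Opens} {V V' : Y.Opens} (hU : U' ≤ U) (hV : V' ≤ V)
    (e : V ≤ g ⁻¹ᵁ U) (e' : V' ≤ g ⁻¹ᵁ U') (a : Γ(Z, U)) :
    (g.appLE U' V' e').hom (resR hU a) = resR hV ((g.appLE U V e).hom a) := by
  have : Z.presheaf.map (homOfLE hU).op ≫ g.appLE U' V' e' =
      g.appLE U V e ≫ Y.presheaf.map (homOfLE hV).op := by
    simp [Scheme.Hom.map_appLE, Scheme.Hom.appLE_map]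
  exact congr($this a)

theorem appLE_appLE {W Y Z : Scheme.{u}} (g : W ⟶ Y) (h : Y ⟶ Z) (k : W ⟶ Z) (hk : g ≫ h = k)
    (U : Z.Opens) (V : Y.Opens) (O : W.Opens) (e₁ : V ≤ h ⁻¹ᵁ U) (e₂ : O ≤ g ⁻¹ᵁ V) (e₃ : O ≤ k ⁻¹ᵁ U)
    (a : Γ(Z, U)) : (g.appLE V O e₂).hom ((h.appLE U V e₁).hom a) = (k.appLE U O e₃).hom a := by
  subst hk
  exact congr($(Scheme.Hom.appLE_comp_appLE g h U V O e₁ e₂) a)

theorem eq_of_cover {Y : Scheme.{u}} {κ : Type u} (O : κ → Y.Opens) (hO : ∀ y, ∃ i, y ∈ O i) {V : Y.Opens}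
    (a b : Γ(Y, V)) (h : ∀ i, resR (inf_le_left : V ⊓ O i ≤ V) a = resR (inf_le_left : V ⊓ O i ≤ V) b) :
    a = b :=
  eq_of_locally (M := Coh.structureModule Y) (V := V) a b fun p hp => by
    obtain ⟨i, hi⟩ := hO p
    exact ⟨V ⊓ O i, inf_le_left, ⟨hp, hi⟩, h i⟩

set_option maxHeartbeats 1000000 in
theorem exists_frame_nhd (ha : ∀ (T : Over S) (U : T.left.Opens), IsIso ((PicF.XTproj f T).app U))
    [IsOpenImmersion j] [Module.FaithfullyFlat R B] [Flat (wmap j B)]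
    [LocallyOfFinitePresentation (wmap j B)]
    (L : X.Modules) (hL : PicF.IsInvertible L)
    (triv : (Scheme.Modules.pullback (pullback.fst f (wmap j B))).obj L ≅ Coh.structureModule _)
    (y₀ : Spec (CommRingCat.of B)) :
    ∃ V : S.Opens, wmap j B y₀ ∈ V ∧ ∃ s : Γ(L, f ⁻¹ᵁ V), IsFrame s := by
  let p := pullback.fst f (wmap j B)
  obtain ⟨c, hc, hcs, hcr⟩ := Trans.exists_pullCoord p triv
  have hcov : ∀ x : X, ∃ i : X, x ∈ (exists_frame hL i).choose := fun x => ⟨x, (exists_frame hL x).choose_spec.choose⟩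
  let U : X → X.Opens := fun i => (exists_frame hL i).choose
  let e : ∀ i, Γ(L, U i) := fun i => (exists_frame hL i).choose_spec.choose_spec.choose
  have he : ∀ i, IsFrame (e i) := fun i => (exists_frame hL i).choose_spec.choose_spec.choose_spec
  let l : B →ₐ[R] B ⊗[R] B := Algebra.TensorProduct.includeLeft
  let r : B →ₐ[R] B ⊗[R] B := Algebra.TensorProduct.includeRight
  let π₁ := bcMap f j l
  let π₂ := bcMap f j r
  let p₂ := pullback.fst f (wmap j (B ⊗[R] B))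
  have hp₁ : π₁ ≫ p = p₂ := bcMap_fst f j l
  have hp₂ : π₂ ≫ p = p₂ := bcMap_fst f j r
  have le₁ : ∀ W : X.Opens, p₂ ⁻¹ᵁ W ≤ π₁ ⁻¹ᵁ (p ⁻¹ᵁ W) := fun W => by rw [← Scheme.Hom.comp_preimage, hp₁]
  have le₂ : ∀ W : X.Opens, p₂ ⁻¹ᵁ W ≤ π₂ ⁻¹ᵁ (p ⁻¹ᵁ W) := fun W => by rw [← Scheme.Hom.comp_preimage, hp₂]
  let d₁ : ∀ W : X.Opens, Γ(L, W) → Γ(pullback f (wmap j (B ⊗[R] B)), p₂ ⁻¹ᵁ W) := fun W s =>
    (π₁.appLE _ _ (le₁ W)).hom (c W s)
  let d₂ : ∀ W : X.Opens, Γ(L, W) → Γ(pullback f (wmap j (B ⊗[R] B)), p₂ ⁻¹ᵁ W) := fun W s =>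
    (π₂.appLE _ _ (le₂ W)).hom (c W s)
  -- the cocycle on the frames
  have hexu : ∀ i, ∃ u, u * d₁ _ (e i) = d₂ _ (e i) := fun i => by
    obtain ⟨w, hw⟩ := (hc _ _ (he i)).map (π₁.appLE _ _ (le₁ (U i))).hom
    refine ⟨d₂ _ (e i) * w⁻¹.1, ?_⟩
    show d₂ _ (e i) * w⁻¹.1 * (π₁.appLE _ _ (le₁ (U i))).hom (c _ (e i)) = _
    rw [← hw, mul_assoc, Units.inv_mul, mul_one]
  choose u hu using hexu
  have hd₁res : ∀ (W W' : X.Opens) (h : W' ≤ W) (s : Γ(L, W)),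
      d₁ W' (res L h s) = resR (p₂.preimage_mono h) (d₁ W s) := fun W W' h s => by
    show (π₁.appLE _ _ (le₁ W')).hom (c W' (res L h s)) = _
    rw [hcr]
    exact appLE_resR π₁ _ _ _ _ _
  have hd₂res : ∀ (W W' : X.Opens) (h : W' ≤ W) (s : Γ(L, W)),
      d₂ W' (res L h s) = resR (p₂.preimage_mono h) (d₂ W s) := fun W W' h s => by
    show (π₂.appLE _ _ (le₂ W')).hom (c W' (res L h s)) = _
    rw [hcr]
    exact appLE_resR π₂ _ _ _ _ _
  have hd₁smul : ∀ (W : X.Opens) (g : Γ(X, W)) (s : Γ(L, W)), d₁ W (g • s) = (p₂.app W).hom g * d₁ W s :=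
    fun W g s => by
    show (π₁.appLE _ _ (le₁ W)).hom (c W (g • s)) = _
    rw [hcs, map_mul]
    congr 1
    simp only [Scheme.Hom.app_eq_appLE]
    exact appLE_appLE π₁ p p₂ hp₁ _ _ _ _ _ _ g
  have hd₂smul : ∀ (W : X.Opens) (g : Γ(X, W)) (s : Γ(L, W)), d₂ W (g • s) = (p₂.app W).hom g * d₂ W s :=
    fun W g s => by
    show (π₂.appLE _ _ (le₂ W)).hom (c W (g • s)) = _
    rw [hcs, map_mul]
    congr 1
    simp only [Scheme.Hom.app_eq_appLE]
    exact appLE_appLE π₂ p p₂ hp₂ _ _ _ _ _ _ g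
  obtain ⟨vv, hvv, -⟩ := existsUnique_glue (M := Coh.structureModule (pullback f (wmap j (B ⊗[R] B)))) (V := ⊤)
    (fun i => p₂ ⁻¹ᵁ U i) (fun _ => le_top) (fun x _ => hcov (p₂ x)) u (fun a b => by
      let W := U a ⊓ U b
      show resR (p₂.preimage_mono (inf_le_left : W ≤ U a)) (u a) = resR (p₂.preimage_mono (inf_le_right : W ≤ U b)) (u b)
      obtain ⟨g, hg⟩ := (he a).exists_coord (inf_le_left : W ≤ U a) (res L (inf_le_right : W ≤ U b) (e b))
      have hgu : IsUnit g := Trans.isUnit_coord ((he a).res _) ((he b).res _) hg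
      have ha' := congrArg (resR (p₂.preimage_mono (inf_le_left : W ≤ U a))) (hu a)
      have hb' := congrArg (resR (p₂.preimage_mono (inf_le_right : W ≤ U b))) (hu b)
      rw [map_mul, ← hd₁res _ _ inf_le_left, ← hd₂res _ _ inf_le_left] at ha'
      rw [map_mul, ← hd₁res _ _ inf_le_right, ← hd₂res _ _ inf_le_right] at hb'
      rw [hg, hd₁smul, hd₂smul, ← ha', ← mul_assoc, ← mul_assoc, mul_comm _ ((p₂.app W).hom g),
        mul_assoc, mul_assoc] at hb'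
      have hd : IsUnit (d₁ W (res L inf_le_left (e a))) := (hc _ _ ((he a).res _)).map (π₁.appLE _ _ (le₁ W)).hom
      exact (hd.mul_right_cancel ((hgu.map (p₂.app W).hom).mul_left_cancel hb')).symm)
  let v : Γ(pullback f (wmap j (B ⊗[R] B)), ⊤) := vv
  have hv : ∀ i, rTop (p₂ ⁻¹ᵁ U i) v * d₁ _ (e i) = d₂ _ (e i) := fun i => by
    rw [show rTop (p₂ ⁻¹ᵁ U i) v = u i from hvv i]
    exact hu i
  obtain ⟨a₀, ha₀⟩ := (bijective_eΓ (A := B ⊗[R] B) f j ha).2 v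
  -- normalisation on the diagonal
  have hμ : Algebra.TensorProduct.lmul' R a₀ = 1 := by
    apply (bijective_eΓ (A := B) f j ha).1
    rw [map_one]
    let Δ := bcMap f j (Algebra.TensorProduct.lmul' R : B ⊗[R] B →ₐ[R] B)
    have hΔ : ∀ (φ : B →ₐ[R] B ⊗[R] B), (Algebra.TensorProduct.lmul' R).comp φ = AlgHom.id R B →
        Δ ≫ bcMap f j φ = 𝟙 _ := fun φ hφ => by rw [bcMap_comp, hφ, bcMap_id]
    have h₁ : Δ ≫ π₁ = 𝟙 _ := hΔ l (by ext; simp [l])
    have h₂ : Δ ≫ π₂ = 𝟙 _ := hΔ r (by ext; simp [r])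
    have h3 : Δ ≫ p₂ = p := bcMap_fst f j _
    rw [← eΓ_nat, ha₀]
    refine eq_of_cover (fun i => p ⁻¹ᵁ U i) (fun x => hcov (p x)) _ _ fun i => ?_
    have hle : ⊤ ⊓ p ⁻¹ᵁ U i ≤ Δ ⁻¹ᵁ (p₂ ⁻¹ᵁ U i) := by rw [← Scheme.Hom.comp_preimage, h3]; exact inf_le_right
    have h := congrArg (Δ.appLE _ _ hle).hom (hv i)
    rw [map_mul, appLE_rTop] at h
    have key : ∀ (π : pullback f (wmap j (B ⊗[R] B)) ⟶ pullback f (wmap j B)) (hπ : Δ ≫ π = 𝟙 _)
        (le : p₂ ⁻¹ᵁ U i ≤ π ⁻¹ᵁ (p ⁻¹ᵁ U i)),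
        (Δ.appLE _ _ hle).hom ((π.appLE _ _ le).hom (c _ (e i))) =
          resR (inf_le_right : ⊤ ⊓ p ⁻¹ᵁ U i ≤ p ⁻¹ᵁ U i) (c _ (e i)) := by
      intro π hπ le
      rw [appLE_appLE Δ π _ hπ (p ⁻¹ᵁ U i) (p₂ ⁻¹ᵁ U i) (⊤ ⊓ p ⁻¹ᵁ U i) le hle inf_le_right]
      simp [Scheme.Hom.appLE]
      rfl
    rw [key π₁ h₁, key π₂ h₂] at h
    rw [map_one]
    exact ((hc _ _ (he i)).map (resR (inf_le_right : ⊤ ⊓ p ⁻¹ᵁ U i ≤ p ⁻¹ᵁ U i))).mul_right_cancel
      (h.trans (one_mul _).symm)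
  -- the cocycle identity
  have hco : ι₁₂ a₀ * ι₂₃ a₀ = ι₁₃ a₀ := by
    apply (bijective_eΓ (A := B ⊗[R] (B ⊗[R] B)) f j ha).1
    rw [map_mul, ← eΓ_nat, ← eΓ_nat, ← eΓ_nat, ha₀]
    let p₃ := pullback.fst f (wmap j (B ⊗[R] (B ⊗[R] B)))
    refine eq_of_cover (fun i => p₃ ⁻¹ᵁ U i) (fun x => hcov (p₃ x)) _ _ fun i => ?_
    let O := ⊤ ⊓ p₃ ⁻¹ᵁ U i
    let χ : (B →ₐ[R] B ⊗[R] (B ⊗[R] B)) → Γ(pullback f (wmap j (B ⊗[R] (B ⊗[R] B))), O) := fun ψ =>
      ((bcMap f j ψ).appLE (p ⁻¹ᵁ U i) O (by rw [← Scheme.Hom.comp_preimage, bcMap_fst]; exact inf_le_right)).hom (c _ (e i))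
    have hface : ∀ φ : B ⊗[R] B →ₐ[R] B ⊗[R] (B ⊗[R] B),
        rTop O ((bcMap f j φ).appTop.hom v) * χ (φ.comp l) = χ (φ.comp r) := by
      intro φ
      have hle : O ≤ bcMap f j φ ⁻¹ᵁ (p₂ ⁻¹ᵁ U i) := by
        rw [← Scheme.Hom.comp_preimage, bcMap_fst]; exact inf_le_right
      have h := congrArg ((bcMap f j φ).appLE _ O hle).hom (hv i)
      rw [map_mul, appLE_rTop] at h
      have hcomp : ∀ ψ : B →ₐ[R] B ⊗[R] B, bcMap f j φ ≫ bcMap f j ψ = bcMap f j (φ.comp ψ) := fun ψ =>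
        bcMap_comp f j φ ψ
      refine Eq.trans ?_ (h.trans (appLE_appLE _ _ _ (hcomp r) _ _ _ _ _ _ _))
      congr 1
      exact (appLE_appLE _ _ _ (hcomp l) _ _ _ _ _ _ _).symm
    have h12 := hface (ι₁₂ : B ⊗[R] B →ₐ[R] _)
    have h23 := hface (ι₂₃ : B ⊗[R] B →ₐ[R] _)
    have h13 := hface (ι₁₃ : B ⊗[R] B →ₐ[R] _)
    rw [show (ι₂₃ : B ⊗[R] B →ₐ[R] _).comp l = (ι₁₂ : B ⊗[R] B →ₐ[R] _).comp r by ext; simp [l, r], ← h12] at h23
    rw [show (ι₁₃ : B ⊗[R] B →ₐ[R] _).comp l = (ι₁₂ : B ⊗[R] B →ₐ[R] _).comp l by ext; simp [l],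
      show (ι₁₃ : B ⊗[R] B →ₐ[R] _).comp r = (ι₂₃ : B ⊗[R] B →ₐ[R] _).comp r by ext; simp [r], ← h23] at h13
    have hu : IsUnit (χ ((ι₁₂ : B ⊗[R] B →ₐ[R] _).comp l)) := (hc _ _ (he i)).map _
    refine (hu.mul_right_cancel ?_)
    rw [map_mul]
    refine Eq.trans ?_ h13.symm
    show rTop O _ * rTop O _ * _ = rTop O _ * (rTop O _ * _)
    rw [mul_comm (rTop O _) (rTop O _), mul_assoc]
  obtain ⟨q, hq, hqv⟩ := exists_invariant_not_mem a₀ hco hμ y₀.asIdeal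
  let Q := eΓ f j B q
  have hQ : π₁.appTop.hom Q * v = π₂.appTop.hom Q := by
    rw [eΓ_nat, eΓ_nat, ← ha₀, ← map_mul]
    exact congrArg _ hqv
  -- the open of the base
  let O₀ : (Spec (CommRingCat.of B)).Opens := PrimeSpectrum.basicOpen q
  let V : S.Opens := ⟨wmap j B '' (O₀ : Set (Spec (CommRingCat.of B))), (wmap j B).isOpenMap _ O₀.isOpen⟩
  have hsurj : ∀ (W : X.Opens), W ≤ f ⁻¹ᵁ V → ∀ x ∈ W, ∃ z, p z = x ∧ pullback.snd f (wmap j B) z ∈ O₀ := by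
    intro W hW x hx
    obtain ⟨w, hw, hwx⟩ := hW hx
    obtain ⟨z, hz, hz'⟩ := Scheme.Pullback.exists_preimage_pullback (f := f) (g := wmap j B) x w hwx.symm
    exact ⟨z, hz, hz'.symm ▸ hw⟩
  have hlift : ∀ (T : Scheme.{u}) (g₁ g₂ : T ⟶ pullback f (wmap j B)), g₁ ≫ p = g₂ ≫ p →
      ∃ m : T ⟶ pullback f (wmap j (B ⊗[R] B)), m ≫ π₁ = g₁ ∧ m ≫ π₂ = g₂ := by
    intro T g₁ g₂ hg
    let t₁ := g₁ ≫ pullback.snd _ _
    let t₂ := g₂ ≫ pullback.snd _ _
    have ht : t₁ ≫ Spec.map (CommRingCat.ofHom (algebraMap R B)) =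
        t₂ ≫ Spec.map (CommRingCat.ofHom (algebraMap R B)) := by
      rw [← cancel_mono j]
      simp only [t₁, t₂, Category.assoc, ← pullback.condition]
      exact (reassoc_of% hg) f
    let t := pullback.lift t₁ t₂ ht ≫ (pullbackSpecIso R B B).hom
    have hl : t ≫ Spec.map (CommRingCat.ofHom l.toRingHom) = t₁ := by
      simp only [t, Category.assoc]
      rw [show (pullbackSpecIso R B B).hom ≫ Spec.map (CommRingCat.ofHom l.toRingHom) = pullback.fst _ _ by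
        rw [← Iso.eq_inv_comp, pullbackSpecIso_inv_fst]; rfl, pullback.lift_fst]
    have hr : t ≫ Spec.map (CommRingCat.ofHom r.toRingHom) = t₂ := by
      simp only [t, Category.assoc]
      rw [show (pullbackSpecIso R B B).hom ≫ Spec.map (CommRingCat.ofHom r.toRingHom) = pullback.snd _ _ by
        rw [← Iso.eq_inv_comp, pullbackSpecIso_inv_snd]; rfl, pullback.lift_snd]
    refine ⟨pullback.lift (g₁ ≫ p) t ?_, ?_, ?_⟩
    · have hw : wmap j (B ⊗[R] B) = Spec.map (CommRingCat.ofHom l.toRingHom) ≫ wmap j B := by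
        rw [wmap, wmap, ← Spec.map_comp_assoc]; congr 2
      rw [Category.assoc, pullback.condition, hw, reassoc_of% hl, Category.assoc]
    · apply pullback.hom_ext
      · rw [Category.assoc, bcMap_fst, pullback.lift_fst]
      · rw [Category.assoc, bcMap_snd, pullback.lift_snd_assoc, hl]
    · apply pullback.hom_ext
      · rw [Category.assoc, bcMap_fst, pullback.lift_fst]; exact hg
      · rw [Category.assoc, bcMap_snd, pullback.lift_snd_assoc, hr]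
  have : Flat p := MorphismProperty.pullback_fst f (wmap j B) ‹Flat (wmap j B)›
  have : LocallyOfFinitePresentation p :=
    MorphismProperty.pullback_fst f (wmap j B) ‹LocallyOfFinitePresentation (wmap j B)›
  have hdesc : ∀ (W : X.Opens), W ≤ f ⁻¹ᵁ V → ∀ z : Γ(pullback f (wmap j B), p ⁻¹ᵁ W),
      (π₁.appLE _ _ (le₁ W)).hom z = (π₂.appLE _ _ (le₂ W)).hom z → ∃! a : Γ(X, W), (p.app W).hom a = z := by
    intro W hW z hz
    refine existsUnique_descend p π₁ π₂ hlift (fun x hx => (hsurj W hW x hx).imp fun _ h => h.1)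
      (p₂ ⁻¹ᵁ W) (le₁ W) (le₂ W) ?_ z hz
    rw [← Scheme.Hom.comp_preimage, hp₁]
    exact inf_le_left
  have hinj : ∀ (W : X.Opens), W ≤ f ⁻¹ᵁ V → ∀ a b : Γ(X, W), (p.app W).hom a = (p.app W).hom b → a = b := by
    intro W hW a b hab
    refine (hdesc W hW ((p.app W).hom a) ?_).unique rfl hab.symm
    simp only [Scheme.Hom.app_eq_appLE]
    rw [appLE_appLE π₁ p p₂ hp₁ W _ _ _ (le₁ W) le_rfl, appLE_appLE π₂ p p₂ hp₂ W _ _ _ (le₂ W) le_rfl]
  -- the descended frames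
  let U' : X → X.Opens := fun i => f ⁻¹ᵁ V ⊓ U i
  let e' : ∀ i, Γ(L, U' i) := fun i => res L inf_le_right (e i)
  have hv' : ∀ i, rTop (p₂ ⁻¹ᵁ U' i) v * d₁ _ (e' i) = d₂ _ (e' i) := fun i => by
    rw [hd₁res, hd₂res, ← hv i, map_mul]
    congr 1
    exact (resR_resR _ _ _).symm
  have hexa : ∀ i, ∃ a : Γ(X, U' i), (p.app _).hom a * c _ (e' i) = rTop _ Q := by
    intro i
    obtain ⟨w, hw⟩ := hc _ _ ((he i).res (inf_le_right : U' i ≤ U i))
    obtain ⟨z, hz⟩ : ∃ z, z * c _ (e' i) = rTop (p ⁻¹ᵁ U' i) Q := by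
      refine ⟨rTop (p ⁻¹ᵁ U' i) Q * w⁻¹.1, ?_⟩
      show rTop (p ⁻¹ᵁ U' i) Q * w⁻¹.1 * c _ (res L inf_le_right (e i)) = _
      rw [← hw, mul_assoc, Units.inv_mul, mul_one]
    obtain ⟨a, hA, -⟩ := hdesc (U' i) inf_le_left z (by
      have h₁ := congrArg (π₁.appLE _ _ (le₁ (U' i))).hom hz
      have h₂ := congrArg (π₂.appLE _ _ (le₂ (U' i))).hom hz
      rw [map_mul, appLE_rTop] at h₁ h₂
      have hd : IsUnit (d₂ _ (e' i)) := (hc _ _ ((he i).res _)).map (π₂.appLE _ _ (le₂ (U' i))).hom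
      refine hd.mul_right_cancel ?_
      show _ * _ = _ * (π₂.appLE _ _ (le₂ (U' i))).hom (c _ (e' i))
      rw [h₂, ← hQ, map_mul, ← h₁, ← hv' i]
      show _ * (rTop _ v * (π₁.appLE _ _ (le₁ (U' i))).hom (c _ (e' i))) = _
      ring)
    exact ⟨a, by rw [hA]; exact hz⟩
  choose a hA using hexa
  have hau : ∀ i, IsUnit (a i) := by
    intro i
    rw [← resR_self (a i)]
    refine isUnit_resR le_rfl (a i) fun x hx => ?_
    obtain ⟨z, hzx, hz⟩ := hsurj (U' i) inf_le_left x hx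
    have hzU : z ∈ p ⁻¹ᵁ U' i := show p z ∈ U' i from hzx ▸ hx
    have h1 : z ∈ (pullback f (wmap j B)).basicOpen (rTop (p ⁻¹ᵁ U' i) Q) := by
      rw [show rTop (p ⁻¹ᵁ U' i) Q = resR le_top Q from rfl, resR, Scheme.basicOpen_res]
      refine ⟨hzU, ?_⟩
      show z ∈ (pullback f (wmap j B)).basicOpen ((pullback.snd f (wmap j B)).appTop.hom
        ((Scheme.ΓSpecIso (CommRingCat.of B)).inv.hom q))
      erw [← Scheme.preimage_basicOpen_top]
      show pullback.snd f (wmap j B) z ∈ (Spec (CommRingCat.of B)).basicOpen _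
      rw [AlgebraicGeometry.basicOpen_eq_of_affine]
      exact hz
    rw [← hA i, Scheme.basicOpen_mul, ← Scheme.preimage_basicOpen] at h1
    have := h1.1
    rw [← hzx]
    exact this
  obtain ⟨s, hs, -⟩ := existsUnique_glue (M := L) (V := f ⁻¹ᵁ V) U' (fun _ => inf_le_left)
    (fun x hx => (hcov x).imp fun i hi => ⟨hx, hi⟩) (fun i => a i • e' i) (fun i i' => by
      let W := U' i ⊓ U' i'
      obtain ⟨g, hg⟩ := ((he i).res (inf_le_right : U' i ≤ U i)).exists_coord (inf_le_left : W ≤ U' i)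
        (res L (inf_le_right : W ≤ U' i') (e' i'))
      show res L (inf_le_left : W ≤ U' i) (a i • e' i) = res L (inf_le_right : W ≤ U' i') (a i' • e' i')
      have h : c W (res L (inf_le_left : W ≤ U' i) (a i • e' i)) =
          c W (res L (inf_le_right : W ≤ U' i') (a i' • e' i')) := by
        rw [hcr, hcr, hcs, hcs, hA, hA]
        exact (resR_resR _ _ _).trans (resR_resR _ _ _).symm
      rw [res_smul, res_smul, hg, ← mul_smul] at h ⊢
      rw [hcs, hcs] at h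
      have := (hc _ _ (((he i).res _).res (inf_le_left : W ≤ U' i))).mul_right_cancel h
      rw [hinj W (inf_le_left.trans inf_le_left) _ _ this])
  refine ⟨V, ⟨y₀, hq, rfl⟩, s, InvUfdLib.isFrame_of_cover U' (fun _ => inf_le_left)
    (fun x hx => (hcov x).imp fun i hi => ⟨hx, hi⟩) s fun i => ?_⟩
  rw [hs i]
  exact ((he i).res _).isUnit_smul (hau i)

end

end Groth.Agent.PicfLib.FppfLine
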